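import Mathlib

/-!
A rigid representation of the group `(C_p)^3 ⋊ C_2` (inversion) of dimension `2m`: the three generators act as
`[[1, 0], [A, 1]]` with `A` equal to `1`, the nilpotent shift and its transpose, the involution as `[[1, 0], [0, -1]]`.
-/

set_option autoImplicit false

namespace PSLSmallKronecker

open Matrix

variable {F : Type*} [Field F] {m : ℕ}

/-- The nilpotent shift. -/
def shift (m : ℕ) (F : Type*) [Field F] : Matrix (Fin m) (Fin m) F :=
  Matrix.of fun i j => if (i : ℕ) + 1 = (j : ℕ) then 1 else 0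

lemma mul_shift_zero (a : Matrix (Fin m) (Fin m) F) (i j : Fin m) (hj : (j : ℕ) = 0) :
    (a * shift m F) i j = 0 := by
  simp [Matrix.mul_apply, shift, hj]

lemma mul_shift_succ (a : Matrix (Fin m) (Fin m) F) (i j k : Fin m) (hk : (k : ℕ) + 1 = j) :
    (a * shift m F) i j = a i k := by
  rw [Matrix.mul_apply, Finset.sum_eq_single k]
  · simp [shift, hk]
  · intro b _ hb
    have : ¬ (b : ℕ) + 1 = j := fun h => hb (Fin.ext (by omega))
    simp [shift, this]
  · simp

lemma shift_mul (a : Matrix (Fin m) (Fin m) F) (i j k : Fin m) (hk : (i : ℕ) + 1 = k) :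
    (shift m F * a) i j = a k j := by
  rw [Matrix.mul_apply, Finset.sum_eq_single k]
  · simp [shift, hk]
  · intro b _ hb
    have : ¬ (i : ℕ) + 1 = b := fun h => hb (Fin.ext (by omega))
    simp [shift, this]
  · simp

lemma lower_of_commute (a : Matrix (Fin m) (Fin m) F) (h : a * shift m F = shift m F * a) (h0 : 0 < m) :
    ∀ j : ℕ, ∀ (hj : j < m) (i : Fin m), j ≤ (i : ℕ) →
      a i ⟨j, hj⟩ = if (i : ℕ) = j then a ⟨0, h0⟩ ⟨0, h0⟩ else 0 := by
  intro j
  induction j with
  | zero =>
    intro hj i _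
    by_cases hi : (i : ℕ) = 0
    · rw [if_pos hi, show i = ⟨0, h0⟩ from Fin.ext hi]
    · rw [if_neg hi]
      have hlt : (i : ℕ) - 1 < m := by omega
      have h1 := shift_mul a ⟨(i : ℕ) - 1, hlt⟩ ⟨0, hj⟩ i (by simp; omega)
      rw [← h, mul_shift_zero a _ _ rfl] at h1
      exact h1.symm
  | succ j ih =>
    intro hj i hi
    have hlt : (i : ℕ) - 1 < m := by omega
    have h1 := shift_mul a ⟨(i : ℕ) - 1, hlt⟩ ⟨j + 1, hj⟩ i (by simp; omega)
    rw [← h, mul_shift_succ a _ _ ⟨j, by omega⟩ rfl] at h1
    rw [← h1, ih (by omega) _ (by simp; omega)]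
    by_cases hij : (i : ℕ) = j + 1
    · rw [if_pos hij, if_pos (by simp; omega)]
    · rw [if_neg hij, if_neg (by simp; omega)]

/-- Only scalars commute with the shift and its transpose. -/
lemma eq_scalar_of_commute (a : Matrix (Fin m) (Fin m) F) (h0 : 0 < m)
    (h : a * shift m F = shift m F * a) (h' : a * (shift m F)ᵀ = (shift m F)ᵀ * a) :
    a = a ⟨0, h0⟩ ⟨0, h0⟩ • (1 : Matrix (Fin m) (Fin m) F) := by
  have ht : aᵀ * shift m F = shift m F * aᵀ := by
    have := congrArg Matrix.transpose h'
    rw [Matrix.transpose_mul, Matrix.transpose_mul, Matrix.transpose_transpose] at this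
    exact this.symm
  ext i j
  rw [Matrix.smul_apply, Matrix.one_apply, smul_eq_mul]
  rcases le_total (j : ℕ) (i : ℕ) with hle | hle
  · rw [lower_of_commute a h h0 j j.2 i hle]
    by_cases hij : i = j
    · simp [hij]
    · rw [if_neg hij, if_neg (fun hv => hij (Fin.ext hv))]; simp
  · have := lower_of_commute aᵀ ht h0 i i.2 j hle
    rw [Matrix.transpose_apply] at this
    rw [this, Matrix.transpose_apply]
    by_cases hij : i = j
    · simp [hij]
    · rw [if_neg hij, if_neg (fun hv => hij (Fin.ext hv.symm))]; simp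

variable (p : ℕ) [Fact p.Prime]

/-- The three-parameter family of lower-left blocks. -/
def block (m : ℕ) (v : Fin 3 → ZMod p) : Matrix (Fin m) (Fin m) (ZMod p) :=
  v 0 • 1 + v 1 • shift m (ZMod p) + v 2 • (shift m (ZMod p))ᵀ

lemma block_add (v w : Fin 3 → ZMod p) : block p m (v + w) = block p m v + block p m w := by
  simp only [block, Pi.add_apply, add_smul]; abel

lemma block_zero : block p m 0 = 0 := by simp [block]

lemma block_smul (k : ZMod p) (v : Fin 3 → ZMod p) :
    block p m (k • v) = k • block p m v := by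
  simp only [block, Pi.smul_apply, smul_eq_mul, smul_add, smul_smul]

lemma block_injective (hm : 2 ≤ m) (v : Fin 3 → ZMod p) (h : block p m v = 0) : v = 0 := by
  have e00 := congrFun (congrFun h ⟨0, by omega⟩) ⟨0, by omega⟩
  have e01 := congrFun (congrFun h ⟨0, by omega⟩) ⟨1, by omega⟩
  have e10 := congrFun (congrFun h ⟨1, by omega⟩) ⟨0, by omega⟩
  simp [block, shift, Matrix.one_apply] at e00 e01 e10
  ext i
  fin_cases i <;> simp [e00, e01, e10]

/-- The acting automorphisms: inversion. -/
def act : ℤˣ →* MulAut (Multiplicative (Fin 3 → ZMod p)) where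
  toFun s :=
    { toFun := fun v => Multiplicative.ofAdd (((s : ℤ) : ZMod p) • Multiplicative.toAdd v)
      invFun := fun v => Multiplicative.ofAdd (((s : ℤ) : ZMod p) • Multiplicative.toAdd v)
      left_inv := fun v => by simp [smul_smul, ← Int.cast_mul, ← Units.val_mul]
      right_inv := fun v => by simp [smul_smul, ← Int.cast_mul, ← Units.val_mul]
      map_mul' := fun v w => by simp [smul_add] }
  map_one' := by ext v; simp
  map_mul' s t := by ext v; simp [mul_assoc]

/-- The group `(C_p)^3 ⋊ C_2`. -/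
abbrev Grp : Type := SemidirectProduct (Multiplicative (Fin 3 → ZMod p)) ℤˣ (act p)

instance : Finite (Grp p) := Finite.of_equiv _ SemidirectProduct.equivProd.symm

lemma card_grp : Nat.card (Grp p) = 2 * p ^ 3 := by
  rw [SemidirectProduct.card, mul_comm]
  congr 1
  · simp [Nat.card_eq_fintype_card]
  · rw [Nat.card_eq_fintype_card, Fintype.card_multiplicative, Fintype.card_fun, ZMod.card, Fintype.card_fin]

/-- The matrix of an element of the group. -/
def mat (m : ℕ) (x : Grp p) : Matrix (Fin m ⊕ Fin m) (Fin m ⊕ Fin m) (ZMod p) :=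
  Matrix.fromBlocks 1 0 (block p m (Multiplicative.toAdd x.left)) (((x.right : ℤ) : ZMod p) • 1)

lemma mat_one : mat p m 1 = 1 := by
  simp [mat, block_zero, Matrix.fromBlocks_one]

lemma mat_mul (x y : Grp p) : mat p m (x * y) = mat p m x * mat p m y := by
  simp only [mat, Matrix.fromBlocks_multiply, SemidirectProduct.mul_left, SemidirectProduct.mul_right]
  congr 1
  · simp
  · simp
  · rw [toAdd_mul, block_add]
    simp [act, block_smul]
  · simp [smul_smul, mul_comm]

lemma det_mat (hm : Even m) (x : Grp p) : (mat p m x).det = 1 := by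
  rw [mat, Matrix.det_fromBlocks_zero₁₂, Matrix.det_one, one_mul, Matrix.det_smul, Matrix.det_one, mul_one,
    Fintype.card_fin]
  obtain ⟨r, rfl⟩ := hm
  rcases Int.units_eq_one_or x.right with h | h <;> simp [h, ← two_mul, pow_mul]

/-- The representation in `SL_{2m}`. -/
def rep (hm : Even m) :
    Grp p →* Matrix.SpecialLinearGroup (Fin (m + m)) (ZMod p) where
  toFun x := ⟨Matrix.reindexAlgEquiv (ZMod p) (ZMod p) finSumFinEquiv (mat p m x), by
    rw [Matrix.det_reindexAlgEquiv, det_mat p hm x]⟩
  map_one' := by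
    apply Subtype.ext
    change Matrix.reindexAlgEquiv (ZMod p) (ZMod p) finSumFinEquiv (mat p m 1) = 1
    rw [mat_one, map_one]
  map_mul' x y := by
    apply Subtype.ext
    change Matrix.reindexAlgEquiv (ZMod p) (ZMod p) finSumFinEquiv (mat p m (x * y)) = _ * _
    rw [mat_mul, map_mul]

lemma rep_symm (hm : Even m) (x : Grp p) :
    (Matrix.reindexAlgEquiv (ZMod p) (ZMod p) finSumFinEquiv).symm
      (rep p hm x : Matrix (Fin (m + m)) (Fin (m + m)) (ZMod p)) = mat p m x :=
  AlgEquiv.symm_apply_apply _ _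

/-- The representation in `PSL_{2m}`. -/
def prep (hm : Even m) : Grp p →* Matrix.ProjectiveSpecialLinearGroup (Fin (m + m)) (ZMod p) :=
  (QuotientGroup.mk' _).comp (rep p hm)

lemma rep_central_iff (hm : Even m) (g : Matrix.SpecialLinearGroup (Fin (m + m)) (ZMod p))
    (h : g ∈ Subgroup.center (Matrix.SpecialLinearGroup (Fin (m + m)) (ZMod p))) :
    ∃ r : ZMod p, (Matrix.reindexAlgEquiv (ZMod p) (ZMod p) finSumFinEquiv).symm
      (g : Matrix (Fin (m + m)) (Fin (m + m)) (ZMod p)) = r • (1 : Matrix (Fin m ⊕ Fin m) (Fin m ⊕ Fin m) (ZMod p)) := by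
  obtain ⟨r, -, hr⟩ := Matrix.SpecialLinearGroup.mem_center_iff.1 h
  refine ⟨r, ?_⟩
  rw [← hr, show Matrix.scalar (Fin (m + m)) r = r • (1 : Matrix (Fin (m + m)) (Fin (m + m)) (ZMod p)) by
    simp [Matrix.smul_one_eq_diagonal], map_smul, map_one]

theorem prep_injective (hp : p ≠ 2) (hm : Even m) (h2 : 2 ≤ m) : Function.Injective (prep p hm) := by
  rw [injective_iff_map_eq_one]
  intro x hx
  have hc : rep p hm x ∈ Subgroup.center (Matrix.SpecialLinearGroup (Fin (m + m)) (ZMod p)) :=
    (QuotientGroup.eq_one_iff _).1 hx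
  obtain ⟨r, hr⟩ := rep_central_iff p hm _ hc
  rw [rep_symm] at hr
  rw [mat, ← Matrix.fromBlocks_one, Matrix.fromBlocks_smul, Matrix.fromBlocks_inj] at hr
  obtain ⟨h11, -, h21, h22⟩ := hr
  have hr1 : r = 1 := by
    have := congrFun (congrFun h11 ⟨0, by omega⟩) ⟨0, by omega⟩
    simpa using this.symm
  have hs := congrFun (congrFun h22 ⟨0, by omega⟩) ⟨0, by omega⟩
  simp [hr1] at hs
  rw [smul_zero] at h21
  refine SemidirectProduct.ext ?_ ?_
  · exact Multiplicative.toAdd.injective (block_injective p h2 _ h21)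
  · rcases Int.units_eq_one_or x.right with h | h
    · exact h
    · exfalso
      rw [h] at hs
      have : ((2 : ℕ) : ZMod p) = 0 := by
        simp only [Units.val_neg, Units.val_one, Int.cast_neg, Int.cast_one] at hs
        push_cast; linear_combination -hs
      rw [ZMod.natCast_eq_zero_iff] at this
      exact hp ((Nat.prime_dvd_prime_iff_eq Fact.out Nat.prime_two).1 this)

theorem centralizer_prep (hp : p ≠ 2) (hm : Even m) (h2 : 2 ≤ m) :
    Subgroup.centralizer ((prep p hm).range : Set (Matrix.ProjectiveSpecialLinearGroup (Fin (m + m)) (ZMod p))) = ⊥ := by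
  rw [eq_bot_iff]
  intro q hq
  obtain ⟨g, rfl⟩ := QuotientGroup.mk_surjective q
  set G := (Matrix.reindexAlgEquiv (ZMod p) (ZMod p) finSumFinEquiv).symm
    (g : Matrix (Fin (m + m)) (Fin (m + m)) (ZMod p)) with hG
  have key : ∀ x : Grp p, ∃ r : ZMod p, (∀ k : ℕ, x ^ k = 1 → r ^ k = 1) ∧ G * mat p m x = r • (mat p m x * G) := by
    intro x
    have hc := Subgroup.mem_centralizer_iff.1 hq (prep p hm x) ⟨x, rfl⟩
    have hz : g * rep p hm x * g⁻¹ * (rep p hm x)⁻¹ ∈
        Subgroup.center (Matrix.SpecialLinearGroup (Fin (m + m)) (ZMod p)) := by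
      apply (QuotientGroup.eq_one_iff _).1
      simp only [QuotientGroup.mk_mul, QuotientGroup.mk_inv]
      simp only [prep, MonoidHom.comp_apply, QuotientGroup.mk'_apply] at hc
      rw [← hc]; group
    obtain ⟨r, hr⟩ := rep_central_iff p hm _ hz
    have hgx : g * rep p hm x * g⁻¹ = (g * rep p hm x * g⁻¹ * (rep p hm x)⁻¹) * rep p hm x := by group
    set z := g * rep p hm x * g⁻¹ * (rep p hm x)⁻¹ with hzdef
    refine ⟨r, fun k hk => ?_, ?_⟩
    · have h1 : z ^ k = 1 := by
        have hcm : Commute z (rep p hm x) := (Subgroup.mem_center_iff.1 hz (rep p hm x)).symm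
        have hpow := congrArg (fun t => t ^ k) hgx
        simp only [conj_pow, hcm.mul_pow, ← map_pow, hk, map_one, mul_one, mul_inv_cancel] at hpow
        exact hpow.symm
      have h3 : ((Matrix.reindexAlgEquiv (ZMod p) (ZMod p) finSumFinEquiv).symm
          (z : Matrix (Fin (m + m)) (Fin (m + m)) (ZMod p))) ^ k = 1 := by
        rw [← map_pow, ← Matrix.SpecialLinearGroup.coe_pow, h1, Matrix.SpecialLinearGroup.coe_one, map_one]
      rw [hr, smul_pow, one_pow] at h3
      have := congrFun (congrFun h3 (Sum.inl ⟨0, by omega⟩)) (Sum.inl ⟨0, by omega⟩)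
      simpa using this
    · have h4 : g * rep p hm x = z * (rep p hm x * g) := by rw [hzdef]; group
      have h5 := congrArg (fun t : Matrix.SpecialLinearGroup (Fin (m + m)) (ZMod p) =>
        (Matrix.reindexAlgEquiv (ZMod p) (ZMod p) finSumFinEquiv).symm
          (t : Matrix (Fin (m + m)) (Fin (m + m)) (ZMod p))) h4
      simp only [Matrix.SpecialLinearGroup.coe_mul, map_mul, hr] at h5
      simp only [rep_symm] at h5
      rw [smul_one_mul] at h5
      exact h5
  obtain ⟨a, b, c, d, habcd⟩ : ∃ a b c d, G = Matrix.fromBlocks a b c d :=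
    ⟨_, _, _, _, (Matrix.fromBlocks_toBlocks G).symm⟩
  have hu : ∀ v : Fin 3 → ZMod p, b * block p m v = 0 ∧ d * block p m v = block p m v * a := by
    intro v
    obtain ⟨r, hrk, hr⟩ := key ⟨Multiplicative.ofAdd v, 1⟩
    have hr1 : r = 1 := by
      have hpow : (⟨Multiplicative.ofAdd v, 1⟩ : Grp p) ^ p = 1 := by
        rw [show (⟨Multiplicative.ofAdd v, 1⟩ : Grp p) = SemidirectProduct.inl (Multiplicative.ofAdd v) from rfl,
          ← map_pow, ← ofAdd_nsmul]
        rw [show p • v = 0 from funext fun i => by simp]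
        simp
      have := hrk p hpow
      rwa [ZMod.pow_card] at this
    rw [hr1, one_smul, habcd, mat, Matrix.fromBlocks_multiply, Matrix.fromBlocks_multiply,
      Matrix.fromBlocks_inj] at hr
    simp at hr
    exact ⟨hr.1, by rw [add_comm] at hr; exact add_right_cancel hr.2.1⟩
  have hb : b = 0 := by
    have := (hu ![1, 0, 0]).1
    simpa [block] using this
  have hda : d = a := by
    have := (hu ![1, 0, 0]).2
    simpa [block] using this
  have hJ : a * shift m (ZMod p) = shift m (ZMod p) * a := by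
    have := (hu ![0, 1, 0]).2
    simpa [block, hda] using this
  have hJ' : a * (shift m (ZMod p))ᵀ = (shift m (ZMod p))ᵀ * a := by
    have := (hu ![0, 0, 1]).2
    simpa [block, hda] using this
  have ha0 := eq_scalar_of_commute a (by omega) hJ hJ'
  set t := a ⟨0, by omega⟩ ⟨0, by omega⟩ with ht
  have ha : a ≠ 0 := by
    intro h
    have hd := g.2
    have : G.det = 1 := by
      rw [← hd, hG]
      rw [Matrix.reindexAlgEquiv_symm, Matrix.det_reindexAlgEquiv]
    rw [habcd, hb, Matrix.det_fromBlocks_zero₁₂, h] at this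
    have hne : Nonempty (Fin m) := ⟨⟨0, by omega⟩⟩
    rw [Matrix.det_zero, zero_mul] at this
    exact zero_ne_one this
  obtain ⟨μ, -, hμ⟩ := key ⟨1, -1⟩
  rw [habcd, hb, hda, mat, Matrix.fromBlocks_multiply, Matrix.fromBlocks_multiply, Matrix.fromBlocks_smul,
    Matrix.fromBlocks_inj] at hμ
  simp [block_zero] at hμ
  have hμ1 : μ = 1 := by
    by_contra hne
    apply ha
    have h11 : a = μ • a := hμ.1
    have : (1 - μ) • a = 0 := by rw [sub_smul, one_smul, ← h11, sub_self]
    exact (smul_eq_zero.1 this).resolve_left (sub_ne_zero.2 (Ne.symm hne))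
  have hc : c = 0 := by
    have h21 := hμ.2
    rw [hμ1] at h21
    simp at h21
    have h2ne : (2 : ZMod p) ≠ 0 := by
      intro h
      have : ((2 : ℕ) : ZMod p) = 0 := by exact_mod_cast h
      rw [ZMod.natCast_eq_zero_iff] at this
      exact hp ((Nat.prime_dvd_prime_iff_eq Fact.out Nat.prime_two).1 this)
    ext i j
    have hh := congrFun (congrFun h21 i) j
    simp only [Matrix.neg_apply] at hh
    have : (2 : ZMod p) * c i j = 0 := by linear_combination hh
    simpa [h2ne] using this
  rw [Subgroup.mem_bot, QuotientGroup.eq_one_iff, Matrix.SpecialLinearGroup.mem_center_iff]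
  have hgt : (g : Matrix (Fin (m + m)) (Fin (m + m)) (ZMod p)) = Matrix.scalar (Fin (m + m)) t := by
    have h1 : G = t • 1 := by
      rw [habcd, hb, hc, hda, ha0, ← Matrix.fromBlocks_one, Matrix.fromBlocks_smul, smul_zero]
    have h2 := congrArg (Matrix.reindexAlgEquiv (ZMod p) (ZMod p) finSumFinEquiv) h1
    rw [hG, AlgEquiv.apply_symm_apply, map_smul, map_one] at h2
    rw [h2]; simp [Matrix.smul_one_eq_diagonal]
  refine ⟨t, ?_, hgt.symm⟩
  have := g.2
  rw [hgt] at this
  simpa using this

end PSLSmallKronecker
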